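import Cfsg.Agent.Lib.GLTwoThreeAmalgam.Core
import Cfsg.Agent.Lib.CosetTable.Cover
import Mathlib

/-!
# Bounds from covering tables
-/

set_option autoImplicit false

namespace Cfsg.Agent.Lib.JankoUnique

open Cfsg.Agent.Lib.CosetTable
open Cfsg.Agent.Lib.GLTwoThreeAmalgam (genSub inGen model_inGen coe_eval_inGen)

universe u

variable {G : Type u} [Group G] {f : ℕ → G}

theorem card_le_of_cover {C : Cert} {A : Table} {N : ℕ} (K : Cover C A N) (hw : C.wordsOK = true)
    (hsq : ∀ g, g < C.k → [g, g] ∈ C.rels) (hrel : ∀ w ∈ C.rels, eval f w = 1) {S : Subgroup G}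
    (hS : ∀ w ∈ C.subs, eval f w ∈ S) (hfin : Finite S) :
    Finite (genSub f C.k) ∧ Nat.card (genSub f C.k) ≤ A.n * Nat.card S := by
  have M := model_inGen hw hsq hrel
  have hle : ∀ x : wordSubgroup (inGen f C.k) C.subs, ((x : genSub f C.k) : G) ∈ S := fun x => by
    refine (?_ : (wordSubgroup (inGen f C.k) C.subs).map (genSub f C.k).subtype ≤ S)
      (Subgroup.mem_map_of_mem _ x.2)
    rw [wordSubgroup, MonoidHom.map_closure, Subgroup.closure_le]
    rintro _ ⟨_, ⟨w, hwm, rfl⟩, rfl⟩
    show ((eval (inGen f C.k) w : genSub f C.k) : G) ∈ S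
    rw [coe_eval_inGen (M.subs_lt w hwm)]
    exact hS w hwm
  let ι : wordSubgroup (inGen f C.k) C.subs → S := fun x => ⟨((x : genSub f C.k) : G), hle x⟩
  have hι : Function.Injective ι := fun x y e =>
    Subtype.ext (Subtype.ext (congrArg (fun z : S => (z : G)) e))
  haveI := hfin
  exact K.finite_card_le M ⟨Finite.of_injective ι hι, Nat.card_le_card_of_injective ι hι⟩

end Cfsg.Agent.Lib.JankoUnique
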