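import Mathlib

/-!
# Relation words for the amalgam of `Z₂ × A₅` and `2³:7:3`
-/

set_option autoImplicit false

namespace Cfsg.Agent.Lib.JankoUnique

/-- Repetition of a word. -/
def rep (n : ℕ) (w : List ℕ) : List ℕ := (List.replicate n w).flatten

/-- The fifth power of the Coxeter word. -/
def longZ : List ℕ := [0, 1, 2, 0, 1, 2, 0, 1, 2, 0, 1, 2, 0, 1, 2]

/-- The image of a letter under the element of order seven, `Z` standing for the central involution. -/
def subL (Z : List ℕ) (a : ℕ) : List ℕ := [[2], [3], Z, [], [0, 2]].getD a []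

/-- The image of a word. -/
def subW (Z w : List ℕ) : List ℕ := w.flatMap (subL Z)

/-- The word of the element of order three. -/
def wordX : List ℕ := [1, 0, 1, 0, 2, 1]

/-- The word of the element of order seven. -/
def wordG (Z : List ℕ) : List ℕ := wordX ++ subW Z wordX.reverse

/-- The word of its inverse. -/
def wordGi (Z : List ℕ) : List ℕ := subW Z wordX ++ wordX.reverse

/-- The squares. -/
def sqRels (k : ℕ) : List (List ℕ) := (List.range k).map fun i => [i, i]

/-- The relations of the amalgam. -/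
def amalRels (Z : List ℕ) : List (List ℕ) :=
  [rep 2 [0, 2], rep 5 [0, 1], rep 3 [1, 2], rep 2 (Z ++ [0]), rep 2 (Z ++ [1]), rep 2 (Z ++ [2]),
    Z ++ longZ, rep 5 [2, 3], rep 3 (Z ++ [3]), [3, 0, 2, 3, 0, 2], [0, 2] ++ rep 5 ([2, 3] ++ Z),
    rep 7 (wordG Z), wordX ++ wordG Z ++ wordX.reverse ++ wordGi Z ++ wordGi Z,
    wordG Z ++ [0] ++ wordGi Z ++ [2], wordG Z ++ [2] ++ wordGi Z ++ Z,
    wordG Z ++ Z ++ wordGi Z ++ [0, 2], wordG Z ++ [1] ++ wordGi Z ++ [3]]

/-- The conjugate of an element of order five by the first kind of conjugating element. -/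
def fiveOne (Z h f : List ℕ) : List ℕ := h ++ subW Z f ++ h.reverse

/-- The conjugate of an element of order five by the second kind of conjugating element. -/
def fiveTwo (Z h f : List ℕ) : List ℕ := h ++ (wordGi Z ++ f ++ wordG Z) ++ h.reverse

/-- The commutator relation. -/
def fiveRel (F Fi : List ℕ) : List ℕ := F ++ wordX ++ Fi ++ wordX.reverse

/-- All relations, first kind. -/
def relsOne (f : List ℕ) : List (List ℕ) :=
  sqRels 4 ++ amalRels longZ ++
    [fiveRel (fiveOne longZ [0, 2, 1] f) (fiveOne longZ [0, 2, 1] f.reverse)]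

/-- All relations, second kind. -/
def relsTwo (f : List ℕ) : List (List ℕ) :=
  sqRels 5 ++ amalRels [4] ++
    [fiveRel (fiveTwo [4] [1, 0, 1] f) (fiveTwo [4] [1, 0, 1] f.reverse)]

end Cfsg.Agent.Lib.JankoUnique
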