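import Cfsg.Agent.Lib.JankoOne.Simple
import Cfsg.Agent.Lib.JankoUnique.Words
import Mathlib

/-!
# The relations in the matrix group
-/

set_option autoImplicit false
set_option maxRecDepth 100000

namespace Cfsg.Agent.Lib.JankoUnique

open Cfsg.Agent.Lib.JankoOne

/-- Words for the generators in the matrix group. -/
def jWords : List (List Bool) :=
  [[false, false, true, true, true, false, true, true, false, false, true, false, false, false, true, false,
      false, false, false, false],
    [true, false, false, true, true, true, true, false, false, true, true, false, true, true, false, false],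
    [false, false, true, false, true, false, true, false, true, false, true, false, false, false, false, false,
      false],
    [false, true, true, true, true, false, true]]

/-- The generators in the matrix group. -/
def jGens (n : ℕ) : ↥Cfsg.Spor.J1 := wordJ (jWords.getD n [])

/-- The product of a word. -/
def jProd (w : List ℕ) : ↥Cfsg.Spor.J1 := (w.map jGens).prod

/-- The codes of the generators. -/
noncomputable def jCode (n : ℕ) : ℕ := wordC (jWords.getD n [])

/-- The code of the product of a word. -/
noncomputable def jProdC : List ℕ → ℕ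
  | [] => oneC
  | a :: w => mulC (jCode a) (jProdC w)

theorem encG_jProd : ∀ w : List ℕ, encG (jProd w : GL7) = jProdC w
  | [] => encG_one
  | a :: w => by
    rw [jProdC, ← encG_jProd w, jCode, ← encG_wordG, mulC_encG]
    simp [jProd, jGens, wordJ]

theorem jProd_eq {v : List Bool} {w : List ℕ} (h : Nat.beq (jProdC w) (wordC v) = true) :
    jProd w = wordJ v := by
  refine Subtype.ext (encG_injective ?_)
  show encG (jProd w : GL7) = encG (JankoOne.wordG v)
  rw [encG_jProd, JankoOne.encG_wordG, Nat.eq_of_beq_eq_true h]

theorem rels_codes : (relsOne [2, 1, 0, 1]).all (fun w => Nat.beq (jProdC w) oneC) = true := by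
  decide +kernel

theorem jProd_rels : ∀ w ∈ relsOne [2, 1, 0, 1], jProd w = 1 := by
  intro w hw
  rw [← wordJ_nil]
  exact jProd_eq (List.all_eq_true.mp rels_codes w hw)

theorem gen_codes : Nat.beq (jProdC [0, 1, 0, 1, 0, 2, 1, 3, 2, 1, 3, 0, 1, 3]) (wordC [false]) = true ∧
    Nat.beq (jProdC [0, 1, 3, 1, 3, 2, 1, 3, 1, 0, 1, 0]) (wordC [true]) = true := by
  decide +kernel

theorem closure_jGens : Subgroup.closure {x | ∃ g, g < 4 ∧ jGens g = x} = ⊤ := by
  set K := Subgroup.closure {x | ∃ g, g < 4 ∧ jGens g = x}
  have hP : ∀ w : List ℕ, (∀ a ∈ w, a < 4) → jProd w ∈ K := fun w hw => by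
    refine K.list_prod_mem fun x hx => ?_
    obtain ⟨a, ha, rfl⟩ := List.mem_map.mp hx
    exact Subgroup.subset_closure ⟨a, hw a ha, rfl⟩
  have hX : wordJ [false] ∈ K := by rw [← jProd_eq gen_codes.1]; exact hP _ (by decide)
  have hY : wordJ [true] ∈ K := by rw [← jProd_eq gen_codes.2]; exact hP _ (by decide)
  rw [eq_top_iff]
  rintro ⟨g, hg⟩ -
  refine Subgroup.closure_induction (p := fun y hy => (⟨y, hy⟩ : ↥Cfsg.Spor.J1) ∈ K) ?_ K.one_mem
    (fun _ _ _ _ h1 h2 => K.mul_mem h1 h2) (fun _ _ h1 => K.inv_mem h1) hg
  intro y hy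
  rcases hy with rfl | rfl
  · convert hX using 1; exact Subtype.ext (by simp [wordJ, JankoOne.wordG])
  · convert hY using 1; exact Subtype.ext (by simp [wordJ, JankoOne.wordG])

end Cfsg.Agent.Lib.JankoUnique
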