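import Cfsg.Agent.Lib.JankoUnique.Marking
import Mathlib

/-!
# An element of order five commuting with the element of order three
-/

set_option autoImplicit false
set_option linter.unusedSectionVars false

namespace Cfsg.Agent.Lib.JankoUnique

open Cfsg.Agent.Lib.JankoOrder
open Subgroup

universe u

variable {G : Type u} [Group G] [Finite G]

theorem CentMap.exists_five (H : Hyp G) (ι : CentMap G) :
    ∃ (h : G) (s : Cen2A5), (s = sOne ∨ s = sTwo) ∧ orderOf h = 5 ∧
      h * ι.hom gX = ι.hom gX * h ∧ h * ι.hom s = ι.hom s * h ∧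
      ι.hom cz * h * (ι.hom cz)⁻¹ = h⁻¹ := by
  have A : Axial (ι.hom cz) (ι.hom gX) := ⟨ι.orderOf_cz, ι.hom_cz_comm _, Or.inl ι.orderOf_gX⟩
  obtain ⟨s₀, F₀⟩ := H.exists_frame A
  have hcard := (H.localType_janko ι.orderOf_cz).three _ _ A ι.orderOf_gX
  rw [F₀.card_oddCent H, ι.orderOf_gX] at hcard
  obtain ⟨s, F, ha⟩ : ∃ s, Frame (ι.hom cz) (ι.hom gX) s ∧ Nat.card (axis (ι.hom gX) s) = 5 := by
    rcases F₀.card_axis_cases H with h | h | h
    · exact ⟨_, F₀.swap, by rw [h] at hcard; omega⟩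
    · rw [h] at hcard; omega
    · exact ⟨_, F₀, h⟩
  rcases F.card_axis H with h | ⟨h, hh, -, -, -, hc⟩
  · omega
  have ho : orderOf h = 5 := hc.symm.trans ha
  obtain ⟨hO, hs⟩ := mem_axis.mp hh
  have hx := oddCent_commute hO
  have hinv := F.axis_inverted H hh
  obtain ⟨s', rfl⟩ := ι.cent s F.s_comm
  have h2 : s' * s' = 1 := ι.inj (by rw [map_mul, Involution.mul_self_eq_one F.s_inv, map_one])
  have hact : s' * gX * s'⁻¹ = gX⁻¹ := ι.inj (by simpa using F.s_act)
  obtain ⟨i, hi⟩ := inverter_cases s' h2 hact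
  refine ⟨h, gX ^ i.val * s' * (gX ^ i.val)⁻¹, hi, ho, hx, ?_, hinv⟩
  have hxi : Commute h (ι.hom gX ^ i.val) := Commute.pow_right hx _
  rw [map_mul, map_mul, map_inv, map_pow]
  exact ((hxi.mul_right hs).mul_right hxi.inv_right).eq

end Cfsg.Agent.Lib.JankoUnique
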