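import Cfsg.Agent.Lib.JankoUnique.Relations
import Cfsg.Agent.Lib.JankoUnique.Bound
import Cfsg.Agent.Lib.JankoUnique.Concrete
import Cfsg.Agent.Lib.JankoUnique.CertCore.Cover
import Cfsg.Agent.Lib.JankoUnique.CertGood.Cover
import Cfsg.Agent.Lib.JankoUnique.CertBadA.Cover
import Cfsg.Agent.Lib.JankoUnique.CertBadB.Cover
import Cfsg.Agent.Lib.JankoUnique.CertBadC.Cover
import Mathlib

/-!
# Uniqueness of the first Janko group
-/

set_option autoImplicit false
set_option linter.unusedSectionVars false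

namespace Cfsg.Agent.Lib.JankoUnique

open Cfsg.Agent.Lib.CosetTable
open Cfsg.Agent.Lib.GLTwoThreeAmalgam (genSub)

universe u

theorem certGood_rels : CertGood.cert.rels = relsOne [2, 1, 0, 1] := by decide +kernel

theorem certBadA_rels : CertBadA.cert.rels = relsOne [0, 1, 0, 1, 0, 2] := by decide +kernel

theorem certBadB_rels : CertBadB.cert.rels = relsTwo [4, 0, 1, 2] := by decide +kernel

theorem certBadC_rels : CertBadC.cert.rels = relsTwo [1, 0, 2, 1, 0, 2] := by decide +kernel

theorem certCore_rels : CertCore.cert.rels = [[0, 0], [1, 1], [2, 2], rep 2 [0, 2], rep 5 [0, 1], rep 3 [1, 2]] := by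
  decide +kernel

theorem sq_mem_relsOne (f : List ℕ) (g : ℕ) (hg : g < 4) : [g, g] ∈ relsOne f := by
  simp [relsOne, sqRels, hg]

theorem sq_mem_relsTwo (f : List ℕ) (g : ℕ) (hg : g < 5) : [g, g] ∈ relsTwo f := by
  simp [relsTwo, sqRels, hg]

variable {G : Type u} [Group G] [Finite G]

namespace Mark

variable (M : Mark G)

theorem gens_hom {k : ℕ} (hk : 4 ≤ k) :
    (∀ x : JankoOrder.Cen2A5, M.hom x ∈ genSub M.gens k) ∧ M.g ∈ genSub M.gens k := by
  classical
  have hmem : ∀ a, a < k → M.gens a ∈ genSub M.gens k := fun a ha =>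
    Subgroup.subset_closure ⟨a, ha, rfl⟩
  let K := (genSub M.gens k).comap M.hom
  have hA : gA ∈ K := hmem 0 (by omega)
  have hB : gB ∈ K := hmem 1 (by omega)
  have hC : gC ∈ K := hmem 2 (by omega)
  have hz : JankoOrder.cz ∈ K := by
    rw [show JankoOrder.cz = (gA * gB * gC) ^ 5 by decide +kernel]
    exact pow_mem (mul_mem (mul_mem hA hB) hC) 5
  have hsig : ∀ i, sig i ∈ K := by
    intro i
    fin_cases i
    exacts [K.one_mem, hA, hC, mul_mem hA hC, hz, mul_mem hA hz, mul_mem hC hz, mul_mem (mul_mem hA hC) hz]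
  have hX : gX ∈ K := mul_mem (mul_mem (mul_mem (mul_mem (mul_mem hB hA) hB) hA) hC) hB
  have h3 : 3 ∣ Nat.card K := by
    rw [← orderOf_eq_prime (hp := ⟨Nat.prime_three⟩) gX_order.1 gX_order.2]
    exact K.orderOf_dvd_natCard hX
  have h5 : 5 ∣ Nat.card K := by
    have h := K.orderOf_dvd_natCard (mul_mem hA hB)
    rwa [orderOf_eq_prime (hp := ⟨Nat.prime_five⟩) gAB_order.1 gAB_order.2] at h
  have h8 : 8 ∣ Nat.card K := by
    let S : Subgroup JankoOrder.Cen2A5 :=
      { carrier := Set.range sig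
        one_mem' := ⟨0, sig_zero.1⟩
        mul_mem' := fun ⟨i, hi⟩ ⟨j, hj⟩ => ⟨addI i j, by rw [← sig_mul, hi, hj]⟩
        inv_mem' := fun {x} ⟨i, hi⟩ => ⟨i, by
          have e : sig i * sig i = 1 := by rw [sig_mul, show addI i i = 0 from (by decide : ∀ j : Fin 8, addI j j = 0) i, sig_zero.1]
          rw [← hi]; exact (inv_eq_of_mul_eq_one_right e).symm⟩ }
    have hS : Nat.card S = 8 := by
      show Nat.card (Set.range sig) = 8
      rw [Nat.card_range_of_injective fun i j => sig_injective i j, Nat.card_eq_fintype_card,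
        Fintype.card_fin]
    rw [← hS]
    exact Subgroup.card_dvd_of_le (fun x ⟨i, hi⟩ => hi ▸ hsig i)
  have h120 : Nat.card K = 120 := by
    have hd : Nat.card K ∣ 120 := by
      have := K.card_subgroup_dvd_card
      rwa [Nat.card_eq_fintype_card (α := JankoOrder.Cen2A5), JankoOrder.cen_card] at this
    have h15 : 15 ∣ Nat.card K := Nat.Coprime.mul_dvd_of_dvd_of_dvd (by norm_num) h3 h5
    exact Nat.dvd_antisymm hd (Nat.Coprime.mul_dvd_of_dvd_of_dvd (by norm_num : Nat.Coprime 8 15) h8 h15)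
  have htop : K = ⊤ := Subgroup.eq_top_of_card_eq K (by
    rw [h120, Nat.card_eq_fintype_card, JankoOrder.cen_card])
  have hall : ∀ x, M.hom x ∈ genSub M.gens k := fun x => by
    have : x ∈ K := by rw [htop]; exact Subgroup.mem_top x
    exact this
  refine ⟨hall, ?_⟩
  rw [← M.P_wordG zword_long]
  refine Subgroup.list_prod_mem _ fun x hx => ?_
  obtain ⟨a, ha, rfl⟩ := List.mem_map.mp hx
  refine hmem a ?_
  have : ∀ a ∈ wordG longZ, a < 4 := by decide
  exact (this a ha).trans_le hk

theorem subs_mem {f : ℕ → G} (hf : ∀ n, f n = M.gens n) {a : ℕ} (ha : a ≠ 3) :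
    CosetTable.eval f [a] ∈ M.hom.range := by
  simp only [CosetTable.eval, one_mul, hf]
  match a with
  | 0 => exact ⟨gA, rfl⟩
  | 1 => exact ⟨gB, rfl⟩
  | 2 => exact ⟨gC, rfl⟩
  | 3 => exact absurd rfl ha
  | 4 => exact ⟨JankoOrder.cz, rfl⟩
  | n + 5 => exact ⟨1, map_one _⟩

theorem card_range : Nat.card M.hom.range = 120 := by
  rw [← Nat.card_congr (MonoidHom.ofInjective M.inj).toEquiv, Nat.card_eq_fintype_card,
    JankoOrder.cen_card]

/-- A collapsing table is impossible. -/
theorem false_of_bad {C : Cert} {A : Table} {N : ℕ} (K : Cover C A N) (hw : C.wordsOK = true)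
    (hk : 4 ≤ C.k) (hn : A.n = 1) (hsq : ∀ g, g < C.k → [g, g] ∈ C.rels)
    (hsubs : C.subs.all (fun w => w == [0] || w == [1] || w == [2] || w == [4]) = true)
    (hrel : ∀ w ∈ C.rels, M.P w = 1) : False := by
  obtain ⟨_, hle⟩ := card_le_of_cover K hw hsq (fun w h => eval_eq_one _ M.gens_sq (hrel w h))
    (S := M.hom.range) (fun w hwm => by
      have h := List.all_eq_true.mp hsubs w hwm
      simp only [Bool.or_eq_true, beq_iff_eq] at h
      rcases h with ((rfl | rfl) | rfl) | rfl <;> exact M.subs_mem (fun _ => rfl) (by decide))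
    inferInstance
  obtain ⟨hall, hg⟩ := M.gens_hom hk
  have hsub : M.hom.range ≤ genSub M.gens C.k := by rintro _ ⟨x, rfl⟩; exact hall x
  rw [hn, one_mul] at hle
  have heq := Subgroup.eq_of_le_of_card_ge hsub hle
  rw [← heq] at hg
  have h7 := Subgroup.orderOf_dvd_natCard _ hg
  rw [M.g_order, M.card_range] at h7
  norm_num at h7

theorem good_rels (H : JankoOrder.Hyp G) : ∀ w ∈ relsOne [2, 1, 0, 1], M.P w = 1 := by
  rcases M.exists_rels H with h | h | h | h
  · exact h
  · exact (M.false_of_bad CertBadA.cover CertBadA.words_ok le_rfl rfl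
      (fun g hg => certBadA_rels ▸ sq_mem_relsOne _ g hg) (by decide +kernel) (certBadA_rels ▸ h)).elim
  · exact (M.false_of_bad CertBadB.cover CertBadB.words_ok (show 4 ≤ 5 by norm_num) rfl
      (fun g hg => certBadB_rels ▸ sq_mem_relsTwo _ g hg) (by decide +kernel) (certBadB_rels ▸ h)).elim
  · exact (M.false_of_bad CertBadC.cover CertBadC.words_ok (show 4 ≤ 5 by norm_num) rfl
      (fun g hg => certBadC_rels ▸ sq_mem_relsTwo _ g hg) (by decide +kernel) (certBadC_rels ▸ h)).elim

end Mark

theorem wP_prod {f : ℕ → G} {j : ℕ → ↥Cfsg.Spor.J1} : ∀ w : List ℕ,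
    wP (fun n => (f n, j n)) w = (wP f w, wP j w)
  | [] => rfl
  | a :: w => by simp only [wP_cons, wP_prod w]; rfl

theorem core_subset : ∀ w ∈ CertCore.cert.rels, w ∈ relsOne [2, 1, 0, 1] := by
  rw [certCore_rels]
  decide

theorem card_core_le {P : Type*} [Group P] (f : ℕ → P) (hsq : ∀ n, f n * f n = 1)
    (hrel : ∀ w ∈ CertCore.cert.rels, CosetTable.eval f w = 1) :
    Nat.card (Subgroup.closure ({f 0, f 1, f 2} : Set P)) ≤ 120 := by
  obtain ⟨_, hle⟩ := card_le_of_cover (f := f) CertCore.cover CertCore.words_ok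
    (fun g hg => by
      rw [certCore_rels]
      have : g < 3 := hg
      interval_cases g <;> simp) hrel (S := (⊥ : Subgroup P))
    (fun w hw => by
      have h : CertCore.cert.subs.isEmpty = true := rfl
      rw [List.isEmpty_iff.mp h] at hw
      simp at hw) inferInstance
  rw [Subgroup.card_bot, mul_one] at hle
  refine le_trans (le_of_eq ?_) (hle.trans_eq (rfl : CertCore.tab.n = 120))
  refine congrArg (fun K : Subgroup P => Nat.card K) (congrArg Subgroup.closure (Set.ext fun x => ?_))
  constructor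
  · rintro (rfl | rfl | rfl)
    exacts [⟨0, show 0 < 3 by norm_num, rfl⟩, ⟨1, show 1 < 3 by norm_num, rfl⟩,
      ⟨2, show 2 < 3 by norm_num, rfl⟩]
  · rintro ⟨g, hg, rfl⟩
    have : g < 3 := hg
    interval_cases g <;> simp

/-- The group is the matrix group. -/
theorem iso_of_hyp [IsSimpleGroup G] (H : JankoOrder.Hyp G) {t : G} (ht : orderOf t = 2) :
    Nonempty (G ≃* ↥Cfsg.Spor.J1) := by
  classical
  have hG := H.card_eq_of_hyp ht
  haveI hfinJ : Finite ↥Cfsg.Spor.J1 :=
    Nat.finite_of_card_ne_zero (by rw [JankoOne.card_janko]; norm_num)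
  haveI := JankoOne.isSimpleGroup_janko
  obtain ⟨ι⟩ := exists_centMap H ht
  obtain ⟨M⟩ := ι.exists_mark H hG
  have hM := M.good_rels H
  have hsqJ : ∀ n, jGens n * jGens n = 1 := by
    intro n
    by_cases hn : n < 4
    · have h := jProd_rels _ (sq_mem_relsOne _ n hn)
      simpa [jProd] using h
    · have e : jGens n = 1 := by
        rw [jGens, List.getD_eq_default _ _ (by simp [jWords]; omega), JankoOne.wordJ_nil]
      rw [e, one_mul]
  let f : ℕ → G × ↥Cfsg.Spor.J1 := fun n => (M.gens n, jGens n)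
  have hsq2 : ∀ n, f n * f n = 1 := fun n => Prod.ext (M.gens_sq n) (hsqJ n)
  have hrel : ∀ w ∈ CertGood.cert.rels, CosetTable.eval f w = 1 := by
    intro w hw
    rw [certGood_rels] at hw
    exact eval_eq_one _ hsq2 ((wP_prod w).trans (Prod.ext (hM w hw) (jProd_rels w hw)))
  -- the subgroup of the pairs over the centraliser
  let T := genSub f 4
  let S : Subgroup (G × ↥Cfsg.Spor.J1) := Subgroup.closure {f 0, f 1, f 2}
  let J := Subgroup.closure ({jGens 0, jGens 1, jGens 2} : Set ↥Cfsg.Spor.J1)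
  obtain ⟨hTfin, hle⟩ := card_le_of_cover (f := f) CertGood.cover CertGood.words_ok
    (fun g hg => certGood_rels ▸ sq_mem_relsOne _ g hg) hrel (S := S) (fun w hw => by
      have h : CertGood.cert.subs.all (fun w => w == [0] || w == [1] || w == [2]) = true := by
        decide +kernel
      have h := List.all_eq_true.mp h w hw
      simp only [Bool.or_eq_true, beq_iff_eq] at h
      rcases h with (rfl | rfl) | rfl <;> simp only [CosetTable.eval, one_mul] <;>
        exact Subgroup.subset_closure (by simp)) inferInstance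
  have hn : CertGood.tab.n = 1463 := rfl
  have hk : CertGood.cert.k = 4 := rfl
  rw [hn, hk] at hle
  have hsurj : Function.Surjective ((MonoidHom.snd G ↥Cfsg.Spor.J1).comp T.subtype) := by
    rw [← MonoidHom.range_eq_top, eq_top_iff, ← closure_jGens, Subgroup.closure_le]
    rintro _ ⟨a, ha, rfl⟩
    exact ⟨⟨f a, Subgroup.subset_closure ⟨a, ha, rfl⟩⟩, rfl⟩
  -- the part over the centraliser has at most 120 elements
  have hS120 : Nat.card S ≤ 120 := by
    exact card_core_le f hsq2 fun w hw => hrel w (by rw [certGood_rels]; exact core_subset w hw)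
  have hTJ : Nat.card T = Nat.card ↥Cfsg.Spor.J1 :=
    le_antisymm (by rw [JankoOne.card_janko]; exact hle.trans (Nat.mul_le_mul_left _ hS120))
      (Nat.card_le_card_of_surjective _ hsurj)
  let e : T ≃* ↥Cfsg.Spor.J1 := MulEquiv.ofBijective _
    ((Nat.bijective_iff_surjective_and_card _).mpr ⟨hsurj, hTJ⟩)
  let φ : ↥Cfsg.Spor.J1 →* G := ((MonoidHom.fst G ↥Cfsg.Spor.J1).comp T.subtype).comp e.symm.toMonoidHom
  have hker : φ.ker = ⊥ := by
    refine ((MonoidHom.normal_ker φ).eq_bot_or_eq_top).resolve_right fun h => ?_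
    have h1 : φ (e ⟨f 0, Subgroup.subset_closure ⟨0, by norm_num, rfl⟩⟩) = 1 := by
      rw [← MonoidHom.mem_ker, h]; exact Subgroup.mem_top _
    simp only [φ, MonoidHom.comp_apply, MulEquiv.coe_toMonoidHom, MulEquiv.symm_apply_apply] at h1
    have h2 : M.hom gA = M.hom 1 := h1.trans (map_one _).symm
    exact absurd (M.inj h2) (by decide +kernel)
  have hinj : Function.Injective φ := (MonoidHom.ker_eq_bot_iff φ).mp hker
  have hbij : Function.Bijective φ :=
    (Nat.bijective_iff_injective_and_card _).mpr ⟨hinj, by rw [JankoOne.card_janko, hG]⟩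
  exact ⟨(MulEquiv.ofBijective φ hbij).symm⟩

end Cfsg.Agent.Lib.JankoUnique
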