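import Cfsg.Agent.Lib.JankoUnique.Model
import Cfsg.Agent.Lib.JankoOrder.Main
import Mathlib

/-!
# The marking: an element of order seven normalising a Sylow two-subgroup
-/

set_option autoImplicit false
set_option linter.unusedSectionVars false
set_option linter.style.haveILetI false

namespace Cfsg.Agent.Lib.JankoUnique

open Cfsg.Agent.Lib.JankoOrder (Cen2A5 cz Hyp)
open Subgroup

universe u

variable {G : Type u} [Group G] [Finite G]

/-- An identification of an involution centraliser with the model. -/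
structure CentMap (G : Type u) [Group G] where
  hom : Cen2A5 →* G
  inj : Function.Injective hom
  cent : ∀ x : G, x * hom cz = hom cz * x → ∃ k, hom k = x

namespace CentMap

variable (ι : CentMap G)

theorem orderOf_hom (k : Cen2A5) : orderOf (ι.hom k) = orderOf k := orderOf_injective ι.hom ι.inj k

theorem orderOf_cz : orderOf (ι.hom cz) = 2 := by
  rw [ι.orderOf_hom]
  exact orderOf_eq_prime (hp := ⟨Nat.prime_two⟩) (by decide +kernel) (by decide +kernel)

theorem orderOf_gX : orderOf (ι.hom gX) = 3 := by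
  rw [ι.orderOf_hom]
  exact orderOf_eq_prime (hp := ⟨Nat.prime_three⟩) gX_order.1 gX_order.2

theorem hom_cz_comm (k : Cen2A5) : ι.hom k * ι.hom cz = ι.hom cz * ι.hom k := by
  rw [← map_mul, ← map_mul, JankoOrder.cz_central]

/-- The composite with an automorphism fixing the central involution. -/
def twist (τ : Cen2A5 ≃* Cen2A5) (hτ : τ cz = cz) : CentMap G where
  hom := ι.hom.comp τ.toMonoidHom
  inj := ι.inj.comp τ.injective
  cent x hx := by
    simp only [MonoidHom.comp_apply, MulEquiv.coe_toMonoidHom, hτ] at hx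
    obtain ⟨k, rfl⟩ := ι.cent x hx
    exact ⟨τ.symm k, by simp⟩

/-- Normalising the image of the subgroup of order eight. -/
def NormS (n : G) : Prop := ∀ i : Fin 8, ∃ j : Fin 8, n * ι.hom (sig i) * n⁻¹ = ι.hom (sig j)

theorem NormS.mul {m n : G} (hm : ι.NormS m) (hn : ι.NormS n) : ι.NormS (m * n) := fun i => by
  obtain ⟨j, hj⟩ := hn i
  obtain ⟨l, hl⟩ := hm j
  refine ⟨l, ?_⟩
  rw [show m * n * ι.hom (sig i) * (m * n)⁻¹ = m * (n * ι.hom (sig i) * n⁻¹) * m⁻¹ by group, hj, hl]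

theorem NormS.one : ι.NormS 1 := fun i => ⟨i, by group⟩

theorem NormS.pow {m : G} (hm : ι.NormS m) : ∀ k : ℕ, ι.NormS (m ^ k)
  | 0 => by rw [pow_zero]; exact NormS.one ι
  | k + 1 => by rw [pow_succ]; exact NormS.mul ι (NormS.pow hm k) hm

theorem NormS.inv {m : G} (hm : ι.NormS m) : ι.NormS m⁻¹ := by
  have h : m⁻¹ = m ^ (orderOf m - 1) := by
    rw [inv_eq_iff_mul_eq_one, ← pow_succ', Nat.sub_add_cancel (orderOf_pos m), pow_orderOf_eq_one]
  rw [h]
  exact NormS.pow ι hm _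

/-- The normaliser as a subgroup. -/
def normSub : Subgroup G where
  carrier := {n | ι.NormS n}
  one_mem' := NormS.one ι
  mul_mem' := NormS.mul ι
  inv_mem' := NormS.inv ι

theorem mem_normSub {n : G} : n ∈ ι.normSub ↔ ι.NormS n := Iff.rfl

theorem normS_hom {k : Cen2A5} (hk : normB k = true) : ι.NormS (ι.hom k) := fun i => by
  simp only [normB, decide_eq_true_eq] at hk
  obtain ⟨j, hj⟩ := hk i
  exact ⟨j, by rw [← map_inv, ← map_mul, ← map_mul, hj]⟩

theorem normB_of_normS {k : Cen2A5} (h : ι.NormS (ι.hom k)) : normB k = true := by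
  simp only [normB, decide_eq_true_eq]
  intro i
  obtain ⟨j, hj⟩ := h i
  exact ⟨j, ι.inj (by simpa [map_mul, map_inv] using hj)⟩

theorem exists_move (H : Hyp G) : ∃ n : G, ι.NormS n ∧ n * ι.hom cz * n⁻¹ = ι.hom gA := by
  have ha : orderOf (ι.hom gA) = 2 := by
    rw [ι.orderOf_hom]
    exact orderOf_eq_prime (hp := ⟨Nat.prime_two⟩) (by decide +kernel) (by decide +kernel)
  obtain ⟨w, hw⟩ := isConj_iff.mp (H.conj_all _ _ ι.orderOf_cz ha)
  have hwi : w⁻¹ * ι.hom gA * w = ι.hom cz := by rw [← hw]; group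
  have key : ∀ k : Cen2A5, k * gA = gA * k →
      (w⁻¹ * ι.hom k * w) * ι.hom cz = ι.hom cz * (w⁻¹ * ι.hom k * w) := fun k hk => by
    rw [← hwi]
    calc w⁻¹ * ι.hom k * w * (w⁻¹ * ι.hom gA * w) = w⁻¹ * (ι.hom k * ι.hom gA) * w := by group
      _ = w⁻¹ * (ι.hom gA * ι.hom k) * w := by rw [← map_mul, ← map_mul, hk]
      _ = _ := by group
  obtain ⟨p, hp⟩ := ι.cent _ (key gC (by decide +kernel))
  obtain ⟨q, hq⟩ := ι.cent _ (key cz (JankoOrder.cz_central gA).symm)
  have back : ∀ {k : Cen2A5} {k' : Cen2A5}, ι.hom k' = w⁻¹ * ι.hom k * w →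
      w * ι.hom k' * w⁻¹ = ι.hom k := fun h => by rw [h]; group
  have hsame : ∀ {k l k' l' : Cen2A5}, ι.hom k' = w⁻¹ * ι.hom k * w → ι.hom l' = w⁻¹ * ι.hom l * w →
      k' = l' → k = l := fun h1 h2 e => ι.inj (by rw [← back h1, ← back h2, e])
  have hczA : ι.hom cz = w⁻¹ * ι.hom gA * w := hwi.symm
  have h1 : ι.hom (1 : Cen2A5) = w⁻¹ * ι.hom 1 * w := by simp
  have hmul : ∀ {k l k' l' : Cen2A5}, ι.hom k' = w⁻¹ * ι.hom k * w → ι.hom l' = w⁻¹ * ι.hom l * w →
      ι.hom (k' * l') = w⁻¹ * ι.hom (k * l) * w := fun h1 h2 => by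
    rw [map_mul, map_mul, h1, h2]; group
  obtain ⟨n1, n2, n3, n4, n5, n6, n7, n8⟩ := basis_distinct
  have hp2 : p * p = 1 := ι.inj (by rw [hmul hp hp, n7, ← h1])
  have hq2 : q * q = 1 := ι.inj (by rw [hmul hq hq, n8, ← h1])
  have hpq : p * q = q * p := ι.inj (by rw [hmul hp hq, hmul hq hp, JankoOrder.cz_central])
  obtain ⟨k, ⟨i, hi⟩, j, hj⟩ := pair_conj p hp2 (fun e => n1 (hsame hp h1 e))
    (fun e => n2 (hsame hp hczA e)) q hq2 (fun e => n3 (hsame hq h1 e))
    (fun e => n4 (hsame hq hczA e)) hpq (fun e => n5 (hsame hq hp e))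
    (fun e => n6 (hsame hq (hmul hczA hp) e))
  refine ⟨w * ι.hom k⁻¹, ?_, ?_⟩
  · have hinv : ∀ i : Fin 8, ∃ j : Fin 8,
        (w * ι.hom k⁻¹)⁻¹ * ι.hom (sig i) * (w * ι.hom k⁻¹) = ι.hom (sig j) := by
      have step : ∀ x : G, (w * ι.hom k⁻¹)⁻¹ * x * (w * ι.hom k⁻¹) =
          ι.hom k * (w⁻¹ * x * w) * (ι.hom k)⁻¹ := fun x => by rw [map_inv]; group
      have good : ∀ a b : Fin 8,
          (∃ c, ι.hom k * (w⁻¹ * ι.hom (sig a) * w) * (ι.hom k)⁻¹ = ι.hom (sig c)) →
          (∃ d, ι.hom k * (w⁻¹ * ι.hom (sig b) * w) * (ι.hom k)⁻¹ = ι.hom (sig d)) →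
          ∃ e, ι.hom k * (w⁻¹ * ι.hom (sig (addI a b)) * w) * (ι.hom k)⁻¹ = ι.hom (sig e) := by
        rintro a b ⟨c, hc⟩ ⟨d, hd⟩
        refine ⟨addI c d, ?_⟩
        rw [← sig_mul, ← sig_mul, map_mul, map_mul, ← hc, ← hd]
        group
      obtain ⟨z0, z1, z2, z3, z4⟩ := sig_zero
      have g1 : ∃ c, ι.hom k * (w⁻¹ * ι.hom (sig 1) * w) * (ι.hom k)⁻¹ = ι.hom (sig c) :=
        ⟨4, by rw [z1, hwi, z4, ι.hom_cz_comm, mul_inv_cancel_right]⟩
      have g2 : ∃ c, ι.hom k * (w⁻¹ * ι.hom (sig 2) * w) * (ι.hom k)⁻¹ = ι.hom (sig c) :=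
        ⟨i, by rw [z2, ← hp, ← map_inv, ← map_mul, ← map_mul, hi]⟩
      have g4 : ∃ c, ι.hom k * (w⁻¹ * ι.hom (sig 4) * w) * (ι.hom k)⁻¹ = ι.hom (sig c) :=
        ⟨j, by rw [z4, ← hq, ← map_inv, ← map_mul, ← map_mul, hj]⟩
      intro a
      simp only [step]
      have g3 := good 1 2 g1 g2
      have g5 := good 1 4 g1 g4
      have g6 := good 2 4 g2 g4
      have g7 := good (addI 1 2) 4 g3 g4
      fin_cases a
      · exact ⟨0, by rw [show ((⟨0, by norm_num⟩ : Fin 8)) = 0 from rfl, z0, map_one]; group⟩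
      · exact g1
      · exact g2
      · exact g3
      · exact g4
      · exact g5
      · exact g6
      · exact g7
    have h : ι.NormS (w * ι.hom k⁻¹)⁻¹ := fun a => by
      obtain ⟨b, hb⟩ := hinv a
      exact ⟨b, by rw [inv_inv]; exact hb⟩
    simpa using NormS.inv ι h
  · have : ι.hom k⁻¹ * ι.hom cz * (ι.hom k⁻¹)⁻¹ = ι.hom cz := by
      rw [ι.hom_cz_comm, mul_inv_cancel_right]
    calc w * ι.hom k⁻¹ * ι.hom cz * (w * ι.hom k⁻¹)⁻¹
        = w * (ι.hom k⁻¹ * ι.hom cz * (ι.hom k⁻¹)⁻¹) * w⁻¹ := by group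
      _ = _ := by rw [this, hw]

theorem card_normSub (H : Hyp G) (hG : Nat.card G = 175560) : Nat.card ι.normSub = 168 := by
  classical
  obtain ⟨z0, z1, z2, z3, z4⟩ := sig_zero
  letI act : MulAction ι.normSub G := MulAction.compHom G
    ((ConjAct.toConjAct : G ≃* ConjAct G).toMonoidHom.comp ι.normSub.subtype)
  have hsmul : ∀ (n : ι.normSub) (x : G), n • x = (n : G) * x * (n : G)⁻¹ := fun n x => rfl
  let T : Finset (Fin 8) :=
    Finset.univ.filter fun i => ι.hom (sig i) ∈ MulAction.orbit ι.normSub (ι.hom cz)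
  have hmem : ∀ i, i ∈ T ↔ ∃ n : G, ι.NormS n ∧ n * ι.hom cz * n⁻¹ = ι.hom (sig i) := fun i => by
    simp only [T, Finset.mem_filter, Finset.mem_univ, true_and, MulAction.mem_orbit_iff]
    exact ⟨fun ⟨n, hn⟩ => ⟨n, n.2, hn⟩, fun ⟨n, h1, h2⟩ => ⟨⟨n, h1⟩, h2⟩⟩
  have h4 : (4 : Fin 8) ∈ T := (hmem 4).mpr ⟨1, NormS.one ι, by rw [z4]; group⟩
  have h1 : (1 : Fin 8) ∈ T := (hmem 1).mpr (by rw [z1]; exact ι.exists_move H)
  have h0 : (0 : Fin 8) ∉ T := fun h => by
    obtain ⟨n, -, hn⟩ := (hmem 0).mp h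
    rw [z0, map_one, conj_eq_one_iff] at hn
    have := ι.orderOf_cz
    rw [hn, orderOf_one] at this
    omega
  have hX : ∀ i ∈ T, actX i ∈ T := fun i hi => by
    obtain ⟨n, hn, e⟩ := (hmem i).mp hi
    refine (hmem _).mpr ⟨ι.hom gX * n, NormS.mul ι (ι.normS_hom gX_normB) hn, ?_⟩
    rw [← sig_conj_X, map_mul, map_mul, map_inv, ← e]
    group
  have horb : Nat.card (MulAction.orbit ι.normSub (ι.hom cz)) = T.card := by
    rw [← Fintype.card_coe, ← Nat.card_eq_fintype_card]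
    refine (Nat.card_congr (Equiv.ofBijective
      (fun i : T => (⟨ι.hom (sig i.1), (Finset.mem_filter.mp i.2).2⟩ :
        MulAction.orbit ι.normSub (ι.hom cz))) ⟨fun a b e => ?_, fun y => ?_⟩)).symm
    · exact Subtype.ext (sig_injective _ _ (ι.inj (congrArg Subtype.val e)))
    · obtain ⟨n, hn⟩ := MulAction.mem_orbit_iff.mp y.2
      obtain ⟨j, hj⟩ := (ι.mem_normSub.mp n.2) 4
      rw [z4] at hj
      exact ⟨⟨j, (hmem j).mpr ⟨n, n.2, hj⟩⟩, Subtype.ext (hj.symm.trans hn)⟩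
  have hstab : Nat.card (MulAction.stabilizer ι.normSub (ι.hom cz)) = 24 := by
    rw [← card_normB, ← Fintype.card_coe, ← Nat.card_eq_fintype_card]
    refine (Nat.card_congr (Equiv.ofBijective
      (fun k : (Finset.univ.filter fun k : Cen2A5 => normB k = true) =>
        (⟨⟨ι.hom k.1, ι.normS_hom (Finset.mem_filter.mp k.2).2⟩, ?_⟩ :
          MulAction.stabilizer ι.normSub (ι.hom cz))) ⟨fun a b e => ?_, fun y => ?_⟩)).symm
    · rw [MulAction.mem_stabilizer_iff, hsmul]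
      show ι.hom k.1 * _ * (ι.hom k.1)⁻¹ = _
      rw [ι.hom_cz_comm, mul_inv_cancel_right]
    · exact Subtype.ext (ι.inj (congrArg (fun z : MulAction.stabilizer ι.normSub (ι.hom cz) =>
        ((z : ι.normSub) : G)) e))
    · have hy := MulAction.mem_stabilizer_iff.mp y.2
      rw [hsmul, mul_inv_eq_iff_eq_mul] at hy
      obtain ⟨k, hk⟩ := ι.cent _ hy
      refine ⟨⟨k, Finset.mem_filter.mpr ⟨Finset.mem_univ _, ι.normB_of_normS ?_⟩⟩,
        Subtype.ext (Subtype.ext hk)⟩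
      rw [hk]; exact (y : ι.normSub).2
  have hprod : Nat.card ι.normSub = T.card * 24 := by
    rw [← horb, ← hstab, ← Nat.card_prod]
    exact (Nat.card_congr
      (MulAction.orbitProdStabilizerEquivGroup ι.normSub (ι.hom cz))).symm
  rcases orbit_cases T h4 h1 h0 hX with h | h
  · exfalso
    have h2 := ι.normSub.card_subgroup_dvd_card
    rw [hprod, h, hG] at h2
    norm_num at h2
  · rw [hprod, h]

theorem exists_seven (H : Hyp G) (hG : Nat.card G = 175560) :
    ∃ (y : G) (k : ℕ), k < 7 ∧ ι.NormS y ∧ orderOf y = 7 ∧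
      ι.hom gX * y * (ι.hom gX)⁻¹ = y ^ k := by
  classical
  haveI : Fact (Nat.Prime 7) := ⟨by norm_num⟩
  haveI : Fact (Nat.Prime 3) := ⟨Nat.prime_three⟩
  have hN := ι.card_normSub H hG
  let x : ι.normSub := ⟨ι.hom gX, ι.normS_hom gX_normB⟩
  have hx : orderOf x = 3 := by rw [← Subgroup.orderOf_coe]; exact ι.orderOf_gX
  let X := zpowers x
  have hXp : IsPGroup 3 X := IsPGroup.of_card (n := 1) (by rw [Nat.card_zpowers, hx]; rfl)
  obtain ⟨P₀⟩ : Nonempty (Sylow 7 ι.normSub) := inferInstance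
  have hP : ∀ P : Sylow 7 ι.normSub, Nat.card (P : Subgroup ι.normSub) = 7 := fun P => by
    rw [P.card_eq_multiplicity, hN, show (168 : ℕ).factorization 7 = 1 from ?_, pow_one]
    rw [show (168 : ℕ) = 7 * 24 from rfl, Nat.factorization_mul (by norm_num) (by norm_num),
      Finsupp.add_apply, Nat.Prime.factorization_self (by norm_num),
      Nat.factorization_eq_zero_of_not_dvd (by norm_num)]
  have hn : ¬ 3 ∣ Nat.card (Sylow 7 ι.normSub) := by
    have h1 : Nat.card (Sylow 7 ι.normSub) ∣ (P₀ : Subgroup ι.normSub).index := P₀.card_dvd_index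
    have h2 : (P₀ : Subgroup ι.normSub).index = 24 := by
      have := (P₀ : Subgroup ι.normSub).card_mul_index
      rw [hP, hN] at this
      omega
    have h3 : Nat.card (Sylow 7 ι.normSub) % 7 = 1 := card_sylow_modEq_one 7 ι.normSub
    rw [h2] at h1
    have h4 := Nat.le_of_dvd (by norm_num) h1
    intro h5
    interval_cases hc : Nat.card (Sylow 7 ι.normSub) <;> simp_all
  obtain ⟨P, hfix⟩ := hXp.nonempty_fixed_point_of_prime_not_dvd_card (Sylow 7 ι.normSub) hn
  have hxP : x • P = P := hfix ⟨x, mem_zpowers x⟩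
  obtain ⟨y, hy⟩ : ∃ y : ι.normSub, y ∈ (P : Subgroup ι.normSub) ∧ orderOf y = 7 := by
    obtain ⟨y, hy⟩ := exists_prime_orderOf_dvd_card' (G := (P : Subgroup ι.normSub)) 7 (by rw [hP])
    exact ⟨y, y.2, by rw [Subgroup.orderOf_coe]; exact hy⟩
  have hPz : (P : Subgroup ι.normSub) = zpowers y :=
    (Subgroup.eq_of_le_of_card_ge (zpowers_le.mpr hy.1)
      (by rw [hP, Nat.card_zpowers, hy.2])).symm
  have hconj : x * y * x⁻¹ ∈ (P : Subgroup ι.normSub) := by
    rw [← hxP, Sylow.coe_subgroup_smul]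
    exact ⟨y, hy.1, rfl⟩
  rw [hPz, ← mem_powers_iff_mem_zpowers] at hconj
  obtain ⟨k, hk⟩ := hconj
  refine ⟨y, k % 7, Nat.mod_lt _ (by norm_num), y.2, by rw [Subgroup.orderOf_coe]; exact hy.2, ?_⟩
  have hk' : y ^ (k % 7) = x * y * x⁻¹ := by rw [← hy.2, pow_mod_orderOf]; exact hk
  simpa [x] using (congrArg (Subtype.val) hk').symm

end CentMap

/-- The marking. -/
structure Mark (G : Type u) [Group G] extends CentMap G where
  g : G
  g_order : orderOf g = 7
  g_cz : g * hom cz * g⁻¹ = hom (gA * gC)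
  g_gA : g * hom gA * g⁻¹ = hom gC
  g_gC : g * hom gC * g⁻¹ = hom cz
  g_gX : hom gX * g * (hom gX)⁻¹ = g * g

namespace CentMap

variable (ι : CentMap G)

theorem mark_of_seven {y : G} {k : ℕ} (hk : k < 7) (hy : ι.NormS y)
    (hord : orderOf y = 7) (hx : ι.hom gX * y * (ι.hom gX)⁻¹ = y ^ k) :
    Nonempty (Mark G) ∨ k = 4 := by
  classical
  obtain ⟨z0, z1, z2, z3, z4⟩ := sig_zero
  have hpow7 : ∀ m : ℕ, (y ^ m) ^ 7 = 1 := fun m => by
    rw [← pow_mul, mul_comm, pow_mul, ← hord, pow_orderOf_eq_one, one_pow]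
  choose J hJ using fun m : Fin 7 => NormS.pow ι hy m.val 4
  have hJinj : Function.Injective J := by
    intro a b e
    by_contra hne
    wlog hab : a.val ≤ b.val generalizing a b
    · exact this e.symm (Ne.symm hne) (le_of_not_ge hab)
    have hfix : y ^ (b.val - a.val) * ι.hom cz * (y ^ (b.val - a.val))⁻¹ = ι.hom cz := by
      have ha := hJ a
      have hb := hJ b
      rw [z4] at ha hb
      rw [← e, ← ha, show b.val = a.val + (b.val - a.val) by omega, pow_add] at hb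
      have h := congrArg (fun z => (y ^ a.val)⁻¹ * z * y ^ a.val) hb
      simpa [mul_assoc] using h
    obtain ⟨c, hc⟩ := ι.cent _ (mul_inv_eq_iff_eq_mul.mp hfix)
    have h7 : c ^ 7 = 1 := ι.inj (by rw [map_pow, hc, hpow7, map_one])
    have h120 : c ^ 120 = 1 := by
      rw [← JankoOrder.cen_card]; exact pow_card_eq_one
    have hc1 : c = 1 := by
      have hg := pow_gcd_eq_one.mpr ⟨h7, h120⟩
      simpa using hg
    rw [hc1, map_one] at hc
    have hdvd := orderOf_dvd_of_pow_eq_one hc.symm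
    rw [hord] at hdvd
    have : b.val - a.val = 0 := Nat.eq_zero_of_dvd_of_lt hdvd (by omega)
    exact hne (Fin.ext (by omega))
  have hJ0 : ∀ m, J m ≠ 0 := fun m e => by
    have h := hJ m
    rw [e, z0, z4, map_one, conj_eq_one_iff] at h
    have := ι.orderOf_cz
    rw [h, orderOf_one] at this
    omega
  obtain ⟨m, hm⟩ : ∃ m, J m = 3 := by
    have he : Finset.univ.image J = Finset.univ.erase 0 := Finset.eq_of_subset_of_card_le
      (fun i hi => by
        obtain ⟨m, -, rfl⟩ := Finset.mem_image.mp hi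
        exact Finset.mem_erase.mpr ⟨hJ0 m, Finset.mem_univ _⟩)
      (by rw [Finset.card_image_of_injective _ hJinj]; simp)
    have h3 : (3 : Fin 8) ∈ Finset.univ.image J := by rw [he]; decide
    obtain ⟨m, -, hm⟩ := Finset.mem_image.mp h3
    exact ⟨m, hm⟩
  set g := y ^ m.val with hgdef
  have hg3 : g * ι.hom cz * g⁻¹ = ι.hom (sig 3) := by
    have h := hJ m
    rwa [z4, hm] at h
  have hgord : orderOf g = 7 := by
    haveI : Fact (Nat.Prime 7) := ⟨by norm_num⟩
    refine orderOf_eq_prime (hpow7 _) fun e => ?_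
    rw [e, one_mul, inv_one, mul_one] at hg3
    have := sig_injective 4 3 (by rw [z4]; exact ι.inj hg3)
    exact absurd this (by decide)
  have hgN : ι.NormS g := NormS.pow ι hy _
  obtain ⟨q, hq⟩ := hgN 1
  obtain ⟨r, hr⟩ := hgN 2
  have hM : ∀ i : Fin 8, g * ι.hom (sig i) * g⁻¹ = ι.hom (sig (linI q r 3 i)) := by
    have hadd : ∀ a b a' b' : Fin 8, g * ι.hom (sig a) * g⁻¹ = ι.hom (sig a') →
        g * ι.hom (sig b) * g⁻¹ = ι.hom (sig b') →
        g * ι.hom (sig (addI a b)) * g⁻¹ = ι.hom (sig (addI a' b')) := fun a b a' b' e1 e2 => by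
      rw [← sig_mul, ← sig_mul, map_mul, map_mul, ← e1, ← e2]; group
    have e0 : g * ι.hom (sig 0) * g⁻¹ = ι.hom (sig 0) := by rw [z0, map_one]; group
    have hb : ∀ (i : Fin 8) (P : Prop) [Decidable P] (b v : Fin 8),
        g * ι.hom (sig b) * g⁻¹ = ι.hom (sig v) →
        g * ι.hom (sig (if P then b else 0)) * g⁻¹ = ι.hom (sig (if P then v else 0)) :=
      fun i P _ b v e => by split_ifs <;> assumption
    intro i
    have hsplit : ∀ i : Fin 8, i = linI 1 2 4 i := by decide +kernel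
    conv_lhs => rw [hsplit i]
    unfold linI
    exact hadd _ _ _ _ (hadd _ _ _ _ (hb i _ _ _ hq) (hb i _ _ _ hr)) (hb i _ _ _ (by rw [z4]; exact hg3))
  have hiter : ∀ (n : ℕ) (i : Fin 8),
      g ^ n * ι.hom (sig i) * (g ^ n)⁻¹ = ι.hom (sig ((linI q r 3)^[n] i)) := by
    intro n
    induction n with
    | zero => intro i; simp
    | succ n ih =>
      intro i
      rw [Function.iterate_succ_apply', ← hM, ← ih, pow_succ']
      group
  have hxg : ι.hom gX * g * (ι.hom gX)⁻¹ = g ^ k := by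
    rw [hgdef, ← conj_pow, hx, ← pow_mul, ← pow_mul, mul_comm]
  have hgood : goodImage q r k := by
    refine ⟨fun i j e => ?_, fun i => ?_, fun i => ?_⟩
    · have h : g * ι.hom (sig i) * g⁻¹ = g * ι.hom (sig j) * g⁻¹ := by rw [hM, hM, e]
      exact sig_injective _ _ (ι.inj (mul_left_cancel (mul_right_cancel h)))
    · refine sig_injective _ _ (ι.inj ?_)
      rw [← hiter, ← hgord, pow_orderOf_eq_one]
      group
    · refine sig_injective _ _ (ι.inj ?_)
      rw [← hiter, ← sig_conj_X, ← sig_conj_X, ← hxg, map_mul, map_mul, map_mul, map_mul, map_inv, ← hM]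
      group
  rcases image_cases q r ⟨k, hk⟩ hgood with ⟨hk2, rfl, rfl⟩ | h
  · left
    refine ⟨{ toCentMap := ι, g := g, g_order := hgord, g_cz := ?_, g_gA := ?_, g_gC := ?_, g_gX := ?_ }⟩
    · rw [← z3]; exact hg3
    · rw [← z1, ← z2]; exact hq
    · rw [← z2, ← z4]; exact hr
    · simp only at hk2
      rw [hxg, hk2, pow_two]
  · exact Or.inr h

include ι in
theorem exists_mark (H : Hyp G) (hG : Nat.card G = 175560) : Nonempty (Mark G) := by
  obtain ⟨y, k, hk, hy, hord, hx⟩ := ι.exists_seven H hG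
  rcases ι.mark_of_seven hk hy hord hx with h | rfl
  · exact h
  obtain ⟨t1, t2, t3⟩ := outerAut_facts
  let κ := ι.twist outerAut t1
  have hk1 : ∀ e, κ.hom e = ι.hom (outerAut e) := fun e => rfl
  have hy' : κ.NormS y := fun i => by
    obtain ⟨j, hj, -⟩ := t3 i
    obtain ⟨l, hl⟩ := hy j
    obtain ⟨p, -, hp⟩ := t3 l
    exact ⟨p, by rw [hk1, hk1, hj, hl, hp]⟩
  have hx' : κ.hom gX * y * (κ.hom gX)⁻¹ = y ^ 2 := by
    rw [hk1, t2, map_inv, inv_inv]
    set x := ι.hom gX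
    have h1 : (x⁻¹ * y * x) ^ 4 = y := by
      have h2 : (x⁻¹ * y * x⁻¹⁻¹) ^ 4 = x⁻¹ * y ^ 4 * x⁻¹⁻¹ := conj_pow
      rw [inv_inv, ← hx] at h2
      rw [h2]; group
    have h7 : (x⁻¹ * y * x) ^ 7 = 1 := by
      have h2 : (x⁻¹ * y * x⁻¹⁻¹) ^ 7 = x⁻¹ * y ^ 7 * x⁻¹⁻¹ := conj_pow
      rw [inv_inv] at h2
      rw [h2, ← hord, pow_orderOf_eq_one]
      group
    calc x⁻¹ * y * x = (x⁻¹ * y * x) ^ 7 * (x⁻¹ * y * x) := by rw [h7, one_mul]
      _ = ((x⁻¹ * y * x) ^ 4) ^ 2 := by rw [← pow_succ, ← pow_mul]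
      _ = y ^ 2 := by rw [h1]
  rcases κ.mark_of_seven (by norm_num : 2 < 7) hy' hord hx' with h | h
  · exact h
  · norm_num at h

end CentMap

/-- The identification given by the working hypothesis. -/
theorem exists_centMap (H : Hyp G) {t : G} (ht : orderOf t = 2) : Nonempty (CentMap G) := by
  obtain ⟨φ, hφ⟩ := H.model t ht
  have hz : ((φ.symm cz : centralizer ({t} : Set G)) : G) = t := by
    have h := hφ ⟨t, mem_centralizer_singleton_iff.mpr rfl⟩ rfl
    rw [← h, φ.symm_apply_apply]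
  refine ⟨⟨(centralizer ({t} : Set G)).subtype.comp φ.symm.toMonoidHom,
    (Subgroup.subtype_injective _).comp φ.symm.injective, fun x hx => ?_⟩⟩
  simp only [MonoidHom.comp_apply, MulEquiv.coe_toMonoidHom, Subgroup.coe_subtype, hz] at hx ⊢
  exact ⟨φ ⟨x, mem_centralizer_singleton_iff.mpr hx⟩, by simp⟩

end Cfsg.Agent.Lib.JankoUnique
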