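import Cfsg.Agent.Lib.JankoOrder.Model
import Mathlib

/-!
# Generators of `Z₂ × A₅` as a reflection group and their finite facts
-/

set_option autoImplicit false

namespace Cfsg.Agent.Lib.JankoUnique

open Cfsg.Agent.Lib.JankoOrder (Cen2A5 cz)

/-- First generating involution. -/
def gA : Cen2A5 :=
  (Multiplicative.ofAdd 1, ⟨(Equiv.swap 0 1 * Equiv.swap 2 3 : Equiv.Perm (Fin 5)),
    by rw [Equiv.Perm.mem_alternatingGroup]; decide⟩)

/-- Second generating involution. -/
def gB : Cen2A5 :=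
  (Multiplicative.ofAdd 1, ⟨(Equiv.swap 1 3 * Equiv.swap 2 4 : Equiv.Perm (Fin 5)),
    by rw [Equiv.Perm.mem_alternatingGroup]; decide⟩)

/-- Third generating involution. -/
def gC : Cen2A5 :=
  (Multiplicative.ofAdd 1, ⟨(Equiv.swap 0 2 * Equiv.swap 1 3 : Equiv.Perm (Fin 5)),
    by rw [Equiv.Perm.mem_alternatingGroup]; decide⟩)

/-- The element of order three normalising the four group. -/
def gX : Cen2A5 := gB * gA * gB * gA * gC * gB

/-- The elements of the elementary abelian subgroup of order eight, indexed by their coordinates. -/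
def sig (i : Fin 8) : Cen2A5 := [1, gA, gC, gA * gC, cz, gA * cz, gC * cz, gA * gC * cz].getD i.val 1

/-- Addition of coordinates. -/
def addI (i j : Fin 8) : Fin 8 := ⟨(i.val ^^^ j.val) % 8, Nat.mod_lt _ (by norm_num)⟩

/-- The action of `gX` on the coordinates. -/
def actX (i : Fin 8) : Fin 8 := [0, 7, 1, 6, 4, 3, 5, 2].getD i.val 0

/-- The linear map with given images of the three basis vectors. -/
def linI (q r u i : Fin 8) : Fin 8 :=
  addI (addI (if i.val % 2 = 1 then q else 0) (if i.val / 2 % 2 = 1 then r else 0))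
    (if i.val / 4 % 2 = 1 then u else 0)

theorem sig_injective : ∀ i j : Fin 8, sig i = sig j → i = j := by decide +kernel

theorem sig_mul : ∀ i j : Fin 8, sig i * sig j = sig (addI i j) := by decide +kernel

theorem sig_zero : sig 0 = 1 ∧ sig 1 = gA ∧ sig 2 = gC ∧ sig 3 = gA * gC ∧ sig 4 = cz := by decide +kernel

theorem sig_conj_X : ∀ i : Fin 8, gX * sig i * gX⁻¹ = sig (actX i) := by decide +kernel

theorem gX_order : gX ^ 3 = 1 ∧ gX ≠ 1 := by decide +kernel

theorem gX_inv : gX⁻¹ = gX * gX := by decide +kernel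

set_option synthInstance.maxSize 4096 in
theorem sig_surj : ∀ k : Cen2A5, k * gA = gA * k → k * gC = gC * k → ∃ i, sig i = k := by decide +kernel

/-- Normalising the subgroup of order eight. -/
def normB (k : Cen2A5) : Bool := decide (∀ i : Fin 8, ∃ j : Fin 8, k * sig i * k⁻¹ = sig j)

theorem card_normB : (Finset.univ.filter fun k : Cen2A5 => normB k = true).card = 24 := by decide +kernel

theorem sig_normB : ∀ i : Fin 8, normB (sig i) = true := by decide +kernel

theorem gX_normB : normB gX = true := by decide +kernel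

set_option synthInstance.maxSize 4096 in
theorem pair_conj : ∀ p : Cen2A5, p * p = 1 → p ≠ 1 → p ≠ cz → ∀ q : Cen2A5, q * q = 1 → q ≠ 1 →
    q ≠ cz → p * q = q * p → q ≠ p → q ≠ cz * p →
    ∃ k : Cen2A5, (∃ i, k * p * k⁻¹ = sig i) ∧ ∃ j, k * q * k⁻¹ = sig j := by decide +kernel

theorem orbit_cases : ∀ T : Finset (Fin 8), 4 ∈ T → 1 ∈ T → 0 ∉ T → (∀ i ∈ T, actX i ∈ T) →
    T.card = 4 ∨ T.card = 7 := by decide +kernel

/-- The conditions on the images of the basis under an element of order seven. -/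
def goodImage (q r : Fin 8) (k : ℕ) : Prop :=
  (∀ i j : Fin 8, linI q r 3 i = linI q r 3 j → i = j) ∧
    (∀ i : Fin 8, (linI q r 3)^[7] i = i) ∧
    ∀ i : Fin 8, actX (linI q r 3 i) = (linI q r 3)^[k] (actX i)

instance (q r : Fin 8) (k : ℕ) : Decidable (goodImage q r k) := by unfold goodImage; infer_instance

theorem image_cases : ∀ q r : Fin 8, ∀ k : Fin 7, goodImage q r k.val →
    (k.val = 2 ∧ q = 2 ∧ r = 4) ∨ k.val = 4 := by decide +kernel

/-- The outer automorphism inverting `gX`. -/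
def outerAut : Cen2A5 ≃* Cen2A5 :=
  MulEquiv.prodCongr (MulEquiv.refl _)
    (MulAut.conjNormal (H := alternatingGroup (Fin 5)) (Equiv.swap 2 3))

theorem outerAut_facts : outerAut cz = cz ∧ outerAut gX = gX⁻¹ ∧
    ∀ i : Fin 8, ∃ j : Fin 8, outerAut (sig i) = sig j ∧ outerAut (sig j) = sig i := by decide +kernel

set_option synthInstance.maxSize 4096 in
theorem basis_distinct : gC ≠ (1 : Cen2A5) ∧ gC ≠ gA ∧ cz ≠ (1 : Cen2A5) ∧ cz ≠ gA ∧ cz ≠ gC ∧ cz ≠ gA * gC ∧
    gC * gC = (1 : Cen2A5) ∧ cz * cz = (1 : Cen2A5) := by decide +kernel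

theorem gAB_order : (gA * gB) ^ 5 = 1 ∧ gA * gB ≠ 1 := by decide +kernel

/-- The value of a word in the generators (`4` is the central involution). -/
def genF (n : ℕ) : Cen2A5 := [gA, gB, gC, 1, cz].getD n 1

/-- The product of a word. -/
def genP (w : List ℕ) : Cen2A5 := (w.map genF).prod

/-- The first representative of the involutions inverting `gX`. -/
def sOne : Cen2A5 := genP [0, 2, 1] * (gA * gC) * (genP [0, 2, 1])⁻¹

/-- The second representative. -/
def sTwo : Cen2A5 := genP [1, 0, 1] * gC * (genP [1, 0, 1])⁻¹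

set_option synthInstance.maxSize 4096 in
theorem inverter_cases : ∀ s : Cen2A5, s * s = 1 → s * gX * s⁻¹ = gX⁻¹ →
    ∃ i : Fin 3, gX ^ i.val * s * (gX ^ i.val)⁻¹ = sOne ∨ gX ^ i.val * s * (gX ^ i.val)⁻¹ = sTwo := by
  decide +kernel

/-- Powers reaching one of two given elements. -/
def fivePair (T F₁ F₂ : Cen2A5) : Prop :=
  ∀ F : Cen2A5, F ^ 5 = 1 → F ≠ 1 → T * F * T⁻¹ = F⁻¹ → ∃ i : Fin 5, F ^ i.val = F₁ ∨ F ^ i.val = F₂

set_option synthInstance.maxSize 4096 in
theorem five_one : fivePair gC (genP [2, 1, 0, 1]) (genP [0, 1, 0, 1, 0, 2]) := by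
  unfold fivePair; decide +kernel

set_option synthInstance.maxSize 4096 in
theorem five_two : fivePair (gA * gC) (genP [4, 0, 1, 2]) (genP [1, 0, 2, 1, 0, 2]) := by
  unfold fivePair; decide +kernel

end Cfsg.Agent.Lib.JankoUnique
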