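import Cfsg.Agent.Lib.JankoUnique.Five
import Cfsg.Agent.Lib.JankoUnique.Words
import Cfsg.Agent.Lib.CosetTable.Sound
import Mathlib

/-!
# The relations hold in a marked group
-/

set_option autoImplicit false
set_option linter.unusedSectionVars false

namespace Cfsg.Agent.Lib.JankoUnique

open Cfsg.Agent.Lib.JankoOrder (Cen2A5 cz)

universe u

section Words

variable {M : Type*} [Group M] (f : ℕ → M)

/-- The product of a word. -/
def wP (w : List ℕ) : M := (w.map f).prod

theorem wP_append (u v : List ℕ) : wP f (u ++ v) = wP f u * wP f v := by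
  simp [wP]

theorem wP_cons (a : ℕ) (v : List ℕ) : wP f (a :: v) = f a * wP f v := by
  simp [wP]

theorem wP_nil : wP f [] = 1 := by
  simp [wP]

theorem wP_one (a : ℕ) : wP f [a] = f a := by
  simp [wP]

theorem wP_rep (n : ℕ) (w : List ℕ) : wP f (rep n w) = wP f w ^ n := by
  induction n with
  | zero => simp [rep, wP]
  | succ n ih => rw [rep, List.replicate_succ, List.flatten_cons, wP_append, ← rep, ih, pow_succ']

theorem wP_reverse (hsq : ∀ n, f n * f n = 1) :
    ∀ w : List ℕ, wP f w.reverse = (wP f w)⁻¹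
  | [] => by simp [wP]
  | a :: w => by
    rw [List.reverse_cons, wP_append, wP_reverse hsq w, wP_one, wP_cons, mul_inv_rev,
      inv_eq_of_mul_eq_one_right (hsq a)]

theorem eval_eq_one (hsq : ∀ n, f n * f n = 1) {w : List ℕ} (h : wP f w = 1) :
    CosetTable.eval f w = 1 := by
  rw [CosetTable.eval_eq_prod_reverse]
  show wP f w.reverse = 1
  rw [wP_reverse f hsq, h, inv_one]

end Words

variable {G : Type u} [Group G] [Finite G]

namespace Mark

variable (M : Mark G)

/-- The five involutions. -/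
def gens (n : ℕ) : G :=
  [M.hom gA, M.hom gB, M.hom gC, M.g * M.hom gB * M.g⁻¹, M.hom cz].getD n 1

theorem gens_sq : ∀ n, M.gens n * M.gens n = 1 := by
  have h : gA * gA = (1 : Cen2A5) ∧ gB * gB = (1 : Cen2A5) ∧ gC * gC = (1 : Cen2A5) ∧
      cz * cz = (1 : Cen2A5) := by decide +kernel
  obtain ⟨h1, h2, h3, h4⟩ := h
  intro n
  match n with
  | 0 => show M.hom gA * M.hom gA = 1; rw [← map_mul, h1, map_one]
  | 1 => show M.hom gB * M.hom gB = 1; rw [← map_mul, h2, map_one]
  | 2 => show M.hom gC * M.hom gC = 1; rw [← map_mul, h3, map_one]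
  | 3 =>
    show M.g * M.hom gB * M.g⁻¹ * (M.g * M.hom gB * M.g⁻¹) = 1
    calc M.g * M.hom gB * M.g⁻¹ * (M.g * M.hom gB * M.g⁻¹) = M.g * (M.hom gB * M.hom gB) * M.g⁻¹ := by
          group
      _ = 1 := by rw [← map_mul, h2, map_one]; group
  | 4 => show M.hom cz * M.hom cz = 1; rw [← map_mul, h4, map_one]
  | n + 5 => show (1 : G) * 1 = 1; rw [one_mul]

/-- The product of a word in the generators. -/
abbrev P (w : List ℕ) : G := wP M.gens w

/-- A word representing the central involution. -/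
structure ZWord (Z : List ℕ) : Prop where
  letters : 3 ∉ Z
  value : genP Z = cz

theorem P_hom : ∀ {w : List ℕ}, 3 ∉ w → M.P w = M.hom (genP w)
  | [], _ => by simp [P, wP, genP]
  | a :: w, h => by
    simp only [List.mem_cons, not_or] at h
    rw [P, wP_cons, show wP M.gens w = M.P w from rfl, P_hom h.2,
      show genP (a :: w) = genF a * genP w from List.prod_cons, map_mul]
    congr 1
    match a with
    | 0 => rfl
    | 1 => rfl
    | 2 => rfl
    | 3 => exact absurd rfl h.1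
    | 4 => rfl
    | n + 5 => exact (map_one M.hom).symm

variable {Z : List ℕ} (hZ : ZWord Z)
include hZ

theorem P_Z : M.P Z = M.hom cz := by
  rw [M.P_hom hZ.letters, hZ.value]

theorem P_sub : ∀ {w : List ℕ}, 3 ∉ w → M.P (subW Z w) = M.g * M.P w * M.g⁻¹
  | [], _ => by simp [P, wP, subW]
  | a :: w, h => by
    simp only [List.mem_cons, not_or] at h
    have e : subW Z (a :: w) = subL Z a ++ subW Z w := by simp [subW, List.flatMap_cons]
    rw [e, P, wP_append, show wP M.gens (subW Z w) = M.P (subW Z w) from rfl, P_sub h.2,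
      show M.P (a :: w) = M.gens a * M.P w from wP_cons _ _ _]
    have ha : wP M.gens (subL Z a) = M.g * M.gens a * M.g⁻¹ := by
      match a with
      | 0 => exact (wP_one _ 2).trans M.g_gA.symm
      | 1 => exact wP_one _ 3
      | 2 => exact (M.P_Z hZ).trans M.g_gC.symm
      | 3 => exact absurd rfl h.1
      | 4 =>
        show wP M.gens [0, 2] = M.g * M.hom cz * M.g⁻¹
        rw [M.g_cz, map_mul, wP_cons, wP_one]
        rfl
      | n + 5 => show wP M.gens [] = M.g * 1 * M.g⁻¹; rw [wP_nil]; group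
    rw [ha]
    show M.g * M.gens a * M.g⁻¹ * (M.g * M.P w * M.g⁻¹) = M.g * (M.gens a * M.P w) * M.g⁻¹
    group

omit hZ in
theorem P_wordX : M.P wordX = M.hom gX := by
  rw [M.P_hom (by decide)]
  refine congrArg M.hom ?_
  decide +kernel

omit hZ in
theorem g_conj_gXi : M.g * (M.hom gX)⁻¹ * M.g⁻¹ = (M.hom gX)⁻¹ * M.g := by
  have h := M.g_gX
  have e : M.hom gX * M.g = M.g * M.g * M.hom gX := by rw [← h]; group
  calc M.g * (M.hom gX)⁻¹ * M.g⁻¹ = M.g * (M.g * M.hom gX)⁻¹ := by group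
    _ = (M.hom gX)⁻¹ * (M.hom gX * M.g * (M.g * M.hom gX)⁻¹) := by group
    _ = _ := by rw [e]; group

theorem P_wordG : M.P (wordG Z) = M.g := by
  rw [wordG, P, wP_append, show wP M.gens (subW Z wordX.reverse) = M.P (subW Z wordX.reverse) from rfl,
    M.P_sub hZ (by decide), show M.P wordX.reverse = (M.P wordX)⁻¹ from wP_reverse _ M.gens_sq _]
  rw [show wP M.gens wordX = M.P wordX from rfl, M.P_wordX, M.g_conj_gXi]
  group

theorem P_wordGi : M.P (wordGi Z) = M.g⁻¹ := by
  rw [wordGi, P, wP_append, show wP M.gens (subW Z wordX) = M.P (subW Z wordX) from rfl,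
    M.P_sub hZ (by decide), show wP M.gens wordX.reverse = (M.P wordX)⁻¹ from wP_reverse _ M.gens_sq _,
    M.P_wordX]
  have h := congrArg (fun z => z⁻¹) M.g_conj_gXi
  simp only [mul_inv_rev, inv_inv] at h
  rw [← mul_assoc] at h
  rw [h]
  group

omit hZ in
theorem P_one_of_model {w : List ℕ} (h3 : 3 ∉ w) (h : genP w = 1) : M.P w = 1 := by
  rw [M.P_hom h3, h, map_one]

theorem P_sub_one {w : List ℕ} (h3 : 3 ∉ w) (h : genP w = 1) : M.P (subW Z w) = 1 := by
  rw [M.P_sub hZ h3, M.P_one_of_model h3 h]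
  group

theorem amal_one : ∀ w ∈ amalRels Z, M.P w = 1 := by
  have hz : ∀ k, k * cz = cz * k := JankoOrder.cz_central
  have hg := M.P_wordG hZ
  have hgi := M.P_wordGi hZ
  have hgt := M.P_Z hZ
  have f0 : ∀ a, wP M.gens [a] = M.gens a := fun a => wP_one _ a
  have h2 : ∀ x, x = 0 ∨ x = 1 ∨ x = 2 → genP (Z ++ [x]) * genP (Z ++ [x]) = 1 := by
    intro x hx
    have e : genP (Z ++ [x]) = cz * genF x := by
      simp [genP, List.map_append, List.prod_append, ← hZ.value]
    rw [e]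
    rcases hx with rfl | rfl | rfl <;> decide +kernel
  have hrepZ : ∀ x, x = 0 ∨ x = 1 ∨ x = 2 → M.P (rep 2 (Z ++ [x])) = 1 := fun x hx => by
    have h3 : 3 ∉ Z ++ [x] := by
      simp only [List.mem_append, List.mem_singleton, not_or]
      exact ⟨hZ.letters, by rcases hx with rfl | rfl | rfl <;> decide⟩
    rw [P, wP_rep, show wP M.gens (Z ++ [x]) = M.P (Z ++ [x]) from rfl, M.P_hom h3, ← map_pow, pow_two,
      h2 x hx, map_one]
  intro w hw
  simp only [amalRels, List.mem_cons, List.not_mem_nil, or_false] at hw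
  rcases hw with rfl | rfl | rfl | rfl | rfl | rfl | rfl | rfl | rfl | rfl | rfl | rfl | rfl | rfl | rfl |
    rfl | rfl
  · exact M.P_one_of_model (by decide) (by decide +kernel)
  · exact M.P_one_of_model (by decide) (by decide +kernel)
  · exact M.P_one_of_model (by decide) (by decide +kernel)
  · exact hrepZ 0 (Or.inl rfl)
  · exact hrepZ 1 (Or.inr (Or.inl rfl))
  · exact hrepZ 2 (Or.inr (Or.inr rfl))
  · refine M.P_one_of_model ?_ ?_
    · simp only [List.mem_append, not_or]
      exact ⟨hZ.letters, by decide⟩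
    · rw [genP, List.map_append, List.prod_append, show (Z.map genF).prod = cz from hZ.value]
      decide +kernel
  · rw [show rep 5 [2, 3] = subW Z (rep 5 [0, 1]) by simp [subW, subL, rep, List.replicate_succ]]
    exact M.P_sub_one hZ (by decide) (by decide +kernel)
  · rw [show rep 3 (Z ++ [3]) = subW Z (rep 3 [2, 1]) by simp [subW, subL, rep, List.replicate_succ]]
    exact M.P_sub_one hZ (by decide) (by decide +kernel)
  · rw [show [3, 0, 2, 3, 0, 2] = subW Z (rep 2 [1, 4]) by simp [subW, subL, rep, List.replicate_succ]]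
    exact M.P_sub_one hZ (by decide) (by decide +kernel)
  · rw [show [0, 2] ++ rep 5 ([2, 3] ++ Z) = subW Z ([4] ++ rep 5 [0, 1, 2]) by
      simp [subW, subL, rep, List.replicate_succ]]
    exact M.P_sub_one hZ (by decide) (by decide +kernel)
  · rw [P, wP_rep, show wP M.gens (wordG Z) = M.g from hg, ← M.g_order, pow_orderOf_eq_one]
  · simp only [P, wP_append, wP_reverse _ M.gens_sq] at hg hgi ⊢
    rw [hg, hgi, show wP M.gens wordX = M.hom gX from M.P_wordX, M.g_gX]
    group
  · simp only [P, wP_append, f0] at hg hgi ⊢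
    rw [hg, hgi]
    show M.g * M.hom gA * M.g⁻¹ * M.hom gC = 1
    rw [M.g_gA]
    exact M.gens_sq 2
  · simp only [P, wP_append, f0] at hg hgi hgt ⊢
    rw [hg, hgi, hgt]
    show M.g * M.hom gC * M.g⁻¹ * M.hom cz = 1
    rw [M.g_gC]
    exact M.gens_sq 4
  · simp only [P, wP_append] at hg hgi hgt ⊢
    rw [hg, hgi, hgt, wP_cons, wP_one, M.g_cz]
    show M.hom (gA * gC) * (M.hom gA * M.hom gC) = 1
    rw [← map_mul, ← map_mul, show gA * gC * (gA * gC) = (1 : Cen2A5) by decide +kernel, map_one]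
  · simp only [P, wP_append, f0] at hg hgi ⊢
    rw [hg, hgi]
    exact M.gens_sq 3

omit hZ in
theorem sq_one (k : ℕ) : ∀ w ∈ sqRels k, M.P w = 1 := by
  intro w hw
  simp only [sqRels, List.mem_map] at hw
  obtain ⟨i, -, rfl⟩ := hw
  rw [P, wP_cons, wP_one, M.gens_sq]

theorem five_rel_one {F Fi : List ℕ} {φ : G} (hF : M.P F = φ) (hFi : M.P Fi = φ⁻¹)
    (hc : φ * M.hom gX = M.hom gX * φ) : M.P (fiveRel F Fi) = 1 := by
  simp only [fiveRel, P, wP_append, wP_reverse _ M.gens_sq] at hF hFi ⊢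
  rw [hF, hFi, show wP M.gens wordX = M.hom gX from M.P_wordX, hc]
  group

theorem P_fiveOne {h f : List ℕ} (hh : 3 ∉ h) (hf : 3 ∉ f) :
    M.P (fiveOne Z h f) = M.hom (genP h) * M.g * M.hom (genP f) * (M.hom (genP h) * M.g)⁻¹ := by
  simp only [fiveOne, P, wP_append, wP_reverse _ M.gens_sq]
  rw [show wP M.gens (subW Z f) = M.g * M.P f * M.g⁻¹ from M.P_sub hZ hf, M.P_hom hf,
    show wP M.gens h = M.P h from rfl, M.P_hom hh]
  group

theorem P_fiveTwo {h f : List ℕ} (hh : 3 ∉ h) (hf : 3 ∉ f) :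
    M.P (fiveTwo Z h f) = M.hom (genP h) * M.g⁻¹ * M.hom (genP f) * (M.hom (genP h) * M.g⁻¹)⁻¹ := by
  have hg := M.P_wordG hZ
  have hgi := M.P_wordGi hZ
  simp only [fiveTwo, P, wP_append, wP_reverse _ M.gens_sq] at hg hgi ⊢
  rw [hg, hgi, show wP M.gens f = M.P f from rfl, M.P_hom hf,
    show wP M.gens h = M.P h from rfl, M.P_hom hh]
  group

end Mark

theorem Mark.zword_long : Mark.ZWord longZ := ⟨by decide, by decide +kernel⟩

theorem Mark.zword_four : Mark.ZWord [4] := ⟨by decide, by decide +kernel⟩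

theorem genP_reverse : ∀ w : List ℕ, genP w.reverse = (genP w)⁻¹ := by
  intro w
  refine wP_reverse genF (fun n => ?_) w
  match n with
  | 0 => decide +kernel
  | 1 => decide +kernel
  | 2 => decide +kernel
  | 3 => decide +kernel
  | 4 => decide +kernel
  | n + 5 => exact one_mul _

/-- The four sets of relations. -/
theorem Mark.exists_rels (H : JankoOrder.Hyp G) (M : Mark G) :
    (∀ w ∈ relsOne [2, 1, 0, 1], M.P w = 1) ∨ (∀ w ∈ relsOne [0, 1, 0, 1, 0, 2], M.P w = 1) ∨
      (∀ w ∈ relsTwo [4, 0, 1, 2], M.P w = 1) ∨ (∀ w ∈ relsTwo [1, 0, 2, 1, 0, 2], M.P w = 1) := by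
  obtain ⟨φ, s, hs, ho, hx, hcs, hinv⟩ := M.toCentMap.exists_five H
  have hfill : ∀ (k : ℕ) (Z R : List ℕ), ZWord Z → M.P R = 1 →
      ∀ w ∈ sqRels k ++ amalRels Z ++ [R], M.P w = 1 := by
    intro k Z R hZ hR w hw
    simp only [List.mem_append, List.mem_singleton] at hw
    rcases hw with (hw | hw) | rfl
    · exact M.sq_one k w hw
    · exact M.amal_one hZ w hw
    · exact hR
  -- the element moved into the centraliser of the central involution
  have core : ∀ (k : G) (T : Cen2A5), k * M.hom cz * k⁻¹ = M.hom s →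
      k⁻¹ * M.hom cz * k = M.hom T →
      ∀ F₁ F₂ : Cen2A5, fivePair T F₁ F₂ →
        (k * M.hom F₁ * k⁻¹ * M.hom gX = M.hom gX * (k * M.hom F₁ * k⁻¹)) ∨
        (k * M.hom F₂ * k⁻¹ * M.hom gX = M.hom gX * (k * M.hom F₂ * k⁻¹)) := by
    intro k T hks hkT F₁ F₂ hpair
    have hmem : (k⁻¹ * φ * k) * M.hom cz = M.hom cz * (k⁻¹ * φ * k) := by
      have e : M.hom cz = k⁻¹ * M.hom s * k := by rw [← hks]; group
      rw [e]
      calc k⁻¹ * φ * k * (k⁻¹ * M.hom s * k) = k⁻¹ * (φ * M.hom s) * k := by group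
        _ = k⁻¹ * (M.hom s * φ) * k := by rw [hcs]
        _ = _ := by group
    obtain ⟨F, hF⟩ := M.cent _ hmem
    have hpow : ∀ n : ℕ, k * M.hom (F ^ n) * k⁻¹ = φ ^ n := fun n => by
      rw [map_pow, hF, ← conj_pow]; group
    have h5 : F ^ 5 = 1 := M.inj (by
      have h := hpow 5
      have e : φ ^ 5 = 1 := orderOf_dvd_iff_pow_eq_one.mp (dvd_of_eq ho)
      rw [e, conj_eq_one_iff] at h
      rw [map_one, h])
    have h1 : F ≠ 1 := fun e => by
      have h := hpow 1
      rw [pow_one, pow_one, e, map_one, mul_one, mul_inv_cancel] at h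
      rw [← h, orderOf_one] at ho
      omega
    have hT : T * F * T⁻¹ = F⁻¹ := M.inj (by
      rw [map_mul, map_mul, map_inv, map_inv, hF, ← hkT]
      calc k⁻¹ * M.hom cz * k * (k⁻¹ * φ * k) * (k⁻¹ * M.hom cz * k)⁻¹
          = k⁻¹ * (M.hom cz * φ * (M.hom cz)⁻¹) * k := by group
        _ = k⁻¹ * φ⁻¹ * k := by rw [hinv]
        _ = _ := by group)
    obtain ⟨i, hi⟩ := hpair F h5 h1 hT
    have hc : ∀ n, φ ^ n * M.hom gX = M.hom gX * φ ^ n := fun n => (Commute.pow_left hx n).eq
    rcases hi with e | e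
    · left; rw [← e, hpow]; exact hc _
    · right; rw [← e, hpow]; exact hc _
  rcases hs with rfl | rfl
  · have h1 : (M.hom (genP [0, 2, 1]) * M.g) * M.hom cz * (M.hom (genP [0, 2, 1]) * M.g)⁻¹ =
        M.hom sOne := by
      rw [sOne, map_mul M.hom (genP [0, 2, 1] * (gA * gC)), map_mul, map_inv, ← M.g_cz]
      group
    have h2 : (M.hom (genP [0, 2, 1]) * M.g)⁻¹ * M.hom cz * (M.hom (genP [0, 2, 1]) * M.g) =
        M.hom gC := by
      calc (M.hom (genP [0, 2, 1]) * M.g)⁻¹ * M.hom cz * (M.hom (genP [0, 2, 1]) * M.g)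
          = M.g⁻¹ * ((M.hom (genP [0, 2, 1]))⁻¹ * (M.hom cz * M.hom (genP [0, 2, 1]))) * M.g := by group
        _ = M.g⁻¹ * M.hom cz * M.g := by rw [← M.toCentMap.hom_cz_comm, inv_mul_cancel_left]
        _ = _ := by rw [← M.g_gC]; group
    have fin : ∀ f : List ℕ, 3 ∉ f →
        (M.hom (genP [0, 2, 1]) * M.g * M.hom (genP f) * (M.hom (genP [0, 2, 1]) * M.g)⁻¹ * M.hom gX =
          M.hom gX * (M.hom (genP [0, 2, 1]) * M.g * M.hom (genP f) *
            (M.hom (genP [0, 2, 1]) * M.g)⁻¹)) → ∀ w ∈ relsOne f, M.P w = 1 := by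
      intro f hf hc
      refine hfill 4 longZ _ zword_long (M.five_rel_one zword_long
        (M.P_fiveOne zword_long (by decide) hf) ?_ hc)
      rw [M.P_fiveOne zword_long (by decide) (by simpa using hf), genP_reverse, map_inv]
      group
    rcases core _ _ h1 h2 _ _ five_one with h | h
    · exact Or.inl (fin _ (by decide) h)
    · exact Or.inr (Or.inl (fin _ (by decide) h))
  · have h1 : (M.hom (genP [1, 0, 1]) * M.g⁻¹) * M.hom cz * (M.hom (genP [1, 0, 1]) * M.g⁻¹)⁻¹ =
        M.hom sTwo := by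
      rw [sTwo, map_mul, map_mul, map_inv, ← M.g_gC]
      group
    have h2 : (M.hom (genP [1, 0, 1]) * M.g⁻¹)⁻¹ * M.hom cz * (M.hom (genP [1, 0, 1]) * M.g⁻¹) =
        M.hom (gA * gC) := by
      calc (M.hom (genP [1, 0, 1]) * M.g⁻¹)⁻¹ * M.hom cz * (M.hom (genP [1, 0, 1]) * M.g⁻¹)
          = M.g * ((M.hom (genP [1, 0, 1]))⁻¹ * (M.hom cz * M.hom (genP [1, 0, 1]))) * M.g⁻¹ := by group
        _ = M.g * M.hom cz * M.g⁻¹ := by rw [← M.toCentMap.hom_cz_comm, inv_mul_cancel_left]
        _ = _ := M.g_cz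
    have fin : ∀ f : List ℕ, 3 ∉ f →
        (M.hom (genP [1, 0, 1]) * M.g⁻¹ * M.hom (genP f) * (M.hom (genP [1, 0, 1]) * M.g⁻¹)⁻¹ * M.hom gX =
          M.hom gX * (M.hom (genP [1, 0, 1]) * M.g⁻¹ * M.hom (genP f) *
            (M.hom (genP [1, 0, 1]) * M.g⁻¹)⁻¹)) → ∀ w ∈ relsTwo f, M.P w = 1 := by
      intro f hf hc
      refine hfill 5 [4] _ zword_four (M.five_rel_one zword_four
        (M.P_fiveTwo zword_four (by decide) hf) ?_ hc)
      rw [M.P_fiveTwo zword_four (by decide) (by simpa using hf), genP_reverse, map_inv]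
      group
    rcases core _ _ h1 h2 _ _ five_two with h | h
    · exact Or.inr (Or.inr (Or.inl (fin _ (by decide) h)))
    · exact Or.inr (Or.inr (Or.inr (fin _ (by decide) h)))

end Cfsg.Agent.Lib.JankoUnique
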